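import Groth.Agent.ZMT88.Normalization
import Groth.Agent.OneDim.KrullAkizuki
import Mathlib.AlgebraicGeometry.FunctionField
import Mathlib.RingTheory.Localization.AtPrime.Basic
import Mathlib.RingTheory.IntegralClosure.IntegrallyClosed

/-!
Fibres of a birational morphism over points of codimension at most one.
-/

set_option autoImplicit false

universe u

open CategoryTheory Limits AlgebraicGeometry TopologicalSpace

namespace Groth.Agent.ZMT88

theorem finite_primes_comap_eq {A B K : Type u} [CommRing A] [IsDomain A] [IsNoetherianRing A]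
    [CommRing B] [Algebra A B] [Field K] [Algebra A K] [IsFractionRing A K]
    (φ : B →ₐ[A] K) (hφ : Function.Injective φ) (p : Ideal A) [p.IsPrime]
    (hdim : Ring.KrullDimLE 1 (Localization.AtPrime p)) :
    {q : Ideal B | q.IsPrime ∧ q.comap (algebraMap A B) = p}.Finite := by
  classical
  let A' := Localization.AtPrime p
  letI : Algebra A' K := (IsLocalization.lift (M := p.primeCompl) (g := algebraMap A K)
    fun y => isUnit_iff_ne_zero.mpr fun h => y.2 (by
      rw [show (y : A) = 0 from IsFractionRing.injective A K (h.trans (map_zero _).symm)]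
      exact p.zero_mem)).toAlgebra
  haveI : IsScalarTower A A' K := IsScalarTower.of_algebraMap_eq fun b => (IsLocalization.lift_eq _ b).symm
  haveI : IsFractionRing A' K :=
    IsFractionRing.isFractionRing_of_isDomain_of_isLocalization p.primeCompl A' K
  haveI : IsNoetherianRing A' := IsLocalization.isNoetherianRing p.primeCompl A' inferInstance
  haveI : IsDomain A' := IsLocalization.isDomain_of_atPrime A' p
  let S : Submonoid B := p.primeCompl.map (algebraMap A B)
  have hS : ∀ s ∈ p.primeCompl, algebraMap A K s ≠ 0 := fun s hs h => hs (by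
    rw [IsFractionRing.injective A K (h.trans (map_zero _).symm)]
    exact p.zero_mem)
  let R : Subalgebra A' K :=
    { carrier := {z | ∃ b : B, ∃ s ∈ p.primeCompl, z * algebraMap A K s = φ b}
      mul_mem' := by
        rintro z z' ⟨b, s, hs, h⟩ ⟨b', s', hs', h'⟩
        exact ⟨b * b', s * s', mul_mem hs hs', by rw [map_mul, map_mul, ← h, ← h']; ring⟩
      add_mem' := by
        rintro z z' ⟨b, s, hs, h⟩ ⟨b', s', hs', h'⟩
        exact ⟨b * algebraMap A B s' + b' * algebraMap A B s, s * s', mul_mem hs hs', by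
          rw [map_mul, map_add, map_mul φ, map_mul φ, AlgHom.commutes, AlgHom.commutes, ← h, ← h']; ring⟩
      algebraMap_mem' := fun r => by
        obtain ⟨a, ⟨s, hs⟩, rfl⟩ := IsLocalization.exists_mk'_eq p.primeCompl r
        refine ⟨algebraMap A B a, s, hs, ?_⟩
        rw [IsScalarTower.algebraMap_apply A A' K s, AlgHom.commutes,
          IsScalarTower.algebraMap_apply A A' K a, ← map_mul]
        exact congrArg _ (IsLocalization.mk'_spec A' a ⟨s, hs⟩) }
  let ι : B →+* R := φ.toRingHom.codRestrict R.toSubring fun b => ⟨b, 1, one_mem _, by simp⟩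
  letI : Algebra B R := ι.toAlgebra
  have hι : ∀ b, ((algebraMap B R b : R) : K) = φ b := fun _ => rfl
  haveI : IsLocalization S R :=
    { map_units := by
        rintro ⟨_, s, hs, rfl⟩
        refine IsUnit.of_mul_eq_one ⟨(algebraMap A K s)⁻¹, 1, s, hs, by simp [hS s hs]⟩ (Subtype.ext ?_)
        show φ (algebraMap A B s) * (algebraMap A K s)⁻¹ = 1
        rw [AlgHom.commutes, mul_inv_cancel₀ (hS s hs)]
      surj := by
        rintro ⟨z, b, s, hs, h⟩
        refine ⟨(b, ⟨algebraMap A B s, s, hs, rfl⟩), Subtype.ext ?_⟩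
        show z * φ (algebraMap A B s) = φ b
        rw [AlgHom.commutes, h]
      exists_of_eq := fun {x y} hxy => ⟨1, by
        have : φ x = φ y := congrArg Subtype.val hxy
        rw [hφ this]⟩ }
  have hdisj : ∀ q : Ideal B, q.IsPrime → q.comap (algebraMap A B) = p → Disjoint (S : Set B) q := by
    intro q _ hq
    rw [Set.disjoint_left]
    rintro _ ⟨s, hs, rfl⟩ hsq
    apply hs
    rw [← hq]
    exact hsq
  haveI := Groth.Agent.OneDim.dimensionLEOne_subalgebra R
  obtain ⟨T, hTfin, hT⟩ : ∃ T : Set (Ideal R), T.Finite ∧ ∀ Q : Ideal R, Q.IsPrime →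
      Q.comap (algebraMap A R) = p → Q ∈ T := by
    have hcomap : ∀ a : A, algebraMap A R a = algebraMap A' R (algebraMap A A' a) := fun a =>
      IsScalarTower.algebraMap_apply A A' R a
    by_cases hp0 : p = ⊥
    · refine ⟨{⊥}, Set.finite_singleton _, fun Q hQ hQp => Set.mem_singleton_iff.mpr (by_contra fun hne => ?_)⟩
      obtain ⟨a, ha0, haQ⟩ := Groth.Agent.OneDim.exists_algebraMap_mem R hne
      obtain ⟨r, ⟨s, hs⟩, rfl⟩ := IsLocalization.exists_mk'_eq p.primeCompl a
      have hr : algebraMap A R r ∈ Q := by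
        have h2 : algebraMap A' R (algebraMap A A' r) =
            algebraMap A' R (IsLocalization.mk' A' r ⟨s, hs⟩) * algebraMap A' R (algebraMap A A' s) := by
          rw [← map_mul]
          exact congrArg _ (IsLocalization.mk'_spec A' r ⟨s, hs⟩).symm
        rw [hcomap, h2]
        exact Ideal.mul_mem_right _ _ haQ
      have hr0 : r ∈ p := hQp ▸ hr
      rw [hp0, Ideal.mem_bot] at hr0
      exact ha0 (by rw [hr0, IsLocalization.mk'_zero])
    · obtain ⟨a, hap, ha0⟩ := Submodule.exists_mem_ne_zero_of_ne_bot hp0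
      have ha' : algebraMap A A' a ≠ 0 := fun h => ha0 (IsFractionRing.injective A K (by
        rw [IsScalarTower.algebraMap_apply A A' K, h, map_zero, map_zero]))
      refine ⟨_, Groth.Agent.OneDim.finite_maximal_containing R ha', fun Q hQ hQp => ?_⟩
      have haQ : algebraMap A' R (algebraMap A A' a) ∈ Q := by
        rw [← hcomap]
        rw [← hQp] at hap
        exact hap
      refine ⟨Ring.DimensionLEOne.maximalOfPrime (fun h => ha' ?_) hQ, haQ⟩
      rw [h, Ideal.mem_bot] at haQ
      exact IsFractionRing.injective A' K ((congrArg Subtype.val haQ).trans (map_zero _).symm)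
  refine Set.Finite.subset (hTfin.image (Ideal.comap (algebraMap B R))) ?_
  rintro q ⟨hq, hqp⟩
  have h1 := IsLocalization.comap_map_of_isPrime_disjoint S R hq (hdisj q hq hqp)
  refine ⟨q.map (algebraMap B R), hT _ (IsLocalization.isPrime_of_isPrime_disjoint S R q hq (hdisj q hq hqp)) ?_, h1⟩
  have h2 : (algebraMap A R : A →+* R) = (algebraMap B R).comp (algebraMap A B) :=
    RingHom.ext fun a => by
      rw [RingHom.comp_apply, IsScalarTower.algebraMap_apply A A' R a]
      exact Subtype.ext ((IsScalarTower.algebraMap_apply A A' K a).symm.trans (φ.commutes a).symm)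
  rw [h2, ← Ideal.comap_comap]
  exact (congrArg (Ideal.comap (algebraMap A B)) h1).trans hqp

variable {X Y : Scheme.{u}} [IsIntegral X] [IsIntegral Y] (f : X ⟶ Y)

theorem isFractionRing_stalk_of_eq {U : Y.Opens} (hU : IsAffineOpen U) (z : Y) (hzU : z ∈ U)
    (hz : z = genericPoint ↥Y) :
    @IsFractionRing Γ(Y, U) _ (Y.presheaf.stalk z) _ (Y.presheaf.germ U z hzU).hom.toAlgebra := by
  subst hz
  haveI : Nonempty U := ⟨⟨_, hzU⟩⟩
  exact functionField_isFractionRing_of_isAffineOpen Y U hU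

theorem mem_of_generic_mem {U : Y.Opens} {y : Y} (hy : y ∈ U) : genericPoint ↥Y ∈ U :=
  ((genericPoint_spec Y).mem_open_set_iff U.isOpen).mpr ⟨y, trivial, hy⟩

/-- The function field of `X` is the fraction field of the sections over an affine open of `Y`. -/
theorem isFractionRing_functionField {U : Y.Opens} (hU : IsAffineOpen U) [Nonempty U]
    (hξ : f (genericPoint ↥X) = genericPoint ↥Y)
    (hbir : Function.Bijective (f.stalkMap (genericPoint ↥X))) :
    ∃ (h : genericPoint ↥X ∈ f ⁻¹ᵁ U), @IsFractionRing Γ(Y, U) _ X.functionField _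
      ((f.app U ≫ X.presheaf.germ (f ⁻¹ᵁ U) (genericPoint ↥X) h).hom.toAlgebra) := by
  have h : genericPoint ↥X ∈ f ⁻¹ᵁ U := by
    show f (genericPoint ↥X) ∈ U
    rw [hξ]
    exact mem_of_generic_mem (Classical.arbitrary U).2
  refine ⟨h, ?_⟩
  letI a1 : Algebra Γ(Y, U) (Y.presheaf.stalk (f (genericPoint ↥X))) := (Y.presheaf.germ U _ h).hom.toAlgebra
  letI a2 : Algebra Γ(Y, U) X.functionField :=
    (f.app U ≫ X.presheaf.germ (f ⁻¹ᵁ U) (genericPoint ↥X) h).hom.toAlgebra
  haveI := isFractionRing_stalk_of_eq hU (f (genericPoint ↥X)) h hξ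
  exact IsLocalization.isLocalization_of_algEquiv (nonZeroDivisors Γ(Y, U))
    (AlgEquiv.ofRingEquiv (f := RingEquiv.ofBijective (f.stalkMap (genericPoint ↥X)).hom hbir) fun a => by
      exact ConcreteCategory.congr_hom (f.germ_stalkMap U (genericPoint ↥X) h) a)

theorem app_injective_of_birational {U : Y.Opens} (hU : IsAffineOpen U)
    (hξ : f (genericPoint ↥X) = genericPoint ↥Y)
    (hbir : Function.Bijective (f.stalkMap (genericPoint ↥X))) : Function.Injective (f.app U) := by
  rcases isEmpty_or_nonempty U with hE | hne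
  · intro a b _
    have : U = ⊥ := Opens.ext (Set.eq_empty_iff_forall_notMem.mpr fun y hy => hE.false ⟨y, hy⟩)
    subst this
    exact Subsingleton.elim a b
  obtain ⟨h, hfr⟩ := isFractionRing_functionField f hU hξ hbir
  intro a b hab
  letI a2 : Algebra Γ(Y, U) X.functionField :=
    (f.app U ≫ X.presheaf.germ (f ⁻¹ᵁ U) (genericPoint ↥X) h).hom.toAlgebra
  exact IsFractionRing.injective Γ(Y, U) X.functionField
    (congrArg (X.presheaf.germ (f ⁻¹ᵁ U) (genericPoint ↥X) h) hab)

theorem isIntClosedIn_of_normal (hY : ∀ U : Y.Opens, IsAffineOpen U → Nonempty U → IsIntegrallyClosed Γ(Y, U))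
    (hξ : f (genericPoint ↥X) = genericPoint ↥Y)
    (hbir : Function.Bijective (f.stalkMap (genericPoint ↥X))) : IsIntClosedIn f := by
  intro U hU
  refine ⟨app_injective_of_birational f hU hξ hbir, fun z hz => ?_⟩
  rcases isEmpty_or_nonempty U with hE | hne
  · have : U = ⊥ := Opens.ext (Set.eq_empty_iff_forall_notMem.mpr fun y hy => hE.false ⟨y, hy⟩)
    subst this
    haveI : Subsingleton Γ(X, f ⁻¹ᵁ ⊥) := by
      rw [Scheme.Hom.preimage_bot]
      infer_instance
    exact ⟨0, Subsingleton.elim _ _⟩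
  obtain ⟨h, hfr⟩ := isFractionRing_functionField f hU hξ hbir
  letI a2 : Algebra Γ(Y, U) X.functionField :=
    (f.app U ≫ X.presheaf.germ (f ⁻¹ᵁ U) (genericPoint ↥X) h).hom.toAlgebra
  haveI := hY U hU hne
  haveI : Nonempty (f ⁻¹ᵁ U : X.Opens) := ⟨⟨_, h⟩⟩
  have hz' : IsIntegral Γ(Y, U) (X.presheaf.germ (f ⁻¹ᵁ U) (genericPoint ↥X) h z) := by
    obtain ⟨P, hP, hPz⟩ := hz
    refine ⟨P, hP, ?_⟩
    have := Polynomial.hom_eval₂ P (f.app U).hom (X.presheaf.germ (f ⁻¹ᵁ U) (genericPoint ↥X) h).hom z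
    rw [hPz, map_zero] at this
    exact this.symm
  obtain ⟨a, ha⟩ := IsIntegrallyClosed.algebraMap_eq_of_integral hz'
  exact ⟨a, germ_injective_of_isIntegral X (genericPoint ↥X) h ha⟩

theorem finite_fibre_of_birational [IsLocallyNoetherian Y] [QuasiCompact f]
    (hξ : f (genericPoint ↥X) = genericPoint ↥Y)
    (hbir : Function.Bijective (f.stalkMap (genericPoint ↥X)))
    (y : Y) (hy : ringKrullDim (Y.presheaf.stalk y) ≤ 1) : (f ⁻¹' {y}).Finite := by
  obtain ⟨U, hU, hyU, -⟩ := exists_isAffineOpen_mem_and_subset (x := y) (U := ⊤) trivial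
  haveI : Nonempty U := ⟨⟨y, hyU⟩⟩
  haveI : IsNoetherianRing Γ(Y, U) := IsLocallyNoetherian.component_noetherian ⟨U, hU⟩
  obtain ⟨h, hfr⟩ := isFractionRing_functionField f hU hξ hbir
  obtain ⟨s, hs, hsf, hsU⟩ := X.isBasis_affineOpens.exists_finite_of_isCompact
    (f.isCompact_preimage hU.isCompact : IsCompact ((f ⁻¹ᵁ U : X.Opens) : Set X))
  have hcov : f ⁻¹' {y} ⊆ ⋃ W ∈ s, ((W : Set X) ∩ f ⁻¹' {y}) := by
    intro x hx
    have hxU : x ∈ f ⁻¹ᵁ U := by
      show f x ∈ U
      rw [show f x = y from hx]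
      exact hyU
    rw [hsU, Opens.mem_sSup] at hxU
    obtain ⟨W, hW, hxW⟩ := hxU
    exact Set.mem_biUnion hW ⟨hxW, hx⟩
  refine Set.Finite.subset (hsf.biUnion fun W hWs => ?_) hcov
  have hW : IsAffineOpen W := hs hWs
  have hWU : W ≤ f ⁻¹ᵁ U := hsU ▸ le_sSup hWs
  rcases Set.eq_empty_or_nonempty ((W : Set X) ∩ f ⁻¹' {y}) with hemp | ⟨x₀, hx₀, -⟩
  · rw [hemp]
    exact Set.finite_empty
  haveI : Nonempty W := ⟨⟨x₀, hx₀⟩⟩
  have hξW : genericPoint ↥X ∈ W := mem_of_generic_mem hx₀
  letI a2 : Algebra Γ(Y, U) X.functionField :=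
    (f.app U ≫ X.presheaf.germ (f ⁻¹ᵁ U) (genericPoint ↥X) h).hom.toAlgebra
  letI a3 : Algebra Γ(Y, U) Γ(X, W) := (f.appLE U W hWU).hom.toAlgebra
  let φ : Γ(X, W) →ₐ[Γ(Y, U)] X.functionField :=
    ⟨(X.presheaf.germ W (genericPoint ↥X) hξW).hom, fun a => by
      show (f.appLE U W hWU ≫ X.presheaf.germ W (genericPoint ↥X) hξW).hom a = _
      rw [Scheme.Hom.appLE, Category.assoc, X.presheaf.germ_res]
      rfl⟩
  set p := hU.primeIdealOf ⟨y, hyU⟩
  have hdim : Ring.KrullDimLE 1 (Localization.AtPrime p.asIdeal) := by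
    letI := TopCat.Presheaf.algebra_section_stalk Y.presheaf (⟨y, hyU⟩ : U)
    haveI : IsLocalization.AtPrime (Y.presheaf.stalk y) p.asIdeal := hU.isLocalization_stalk ⟨y, hyU⟩
    rw [Ring.krullDimLE_iff, ← ringKrullDim_eq_of_ringEquiv (IsLocalization.algEquiv p.asIdeal.primeCompl
      (Y.presheaf.stalk y) (Localization.AtPrime p.asIdeal)).toRingEquiv]
    exact hy
  have hfin := finite_primes_comap_eq (A := Γ(Y, U)) φ (germ_injective_of_isIntegral X _ hξW) p.asIdeal hdim
  have hWfin : (Set.range fun x : ↥((W : Set X) ∩ f ⁻¹' {y}) =>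
      (hW.primeIdealOf ⟨x.1, x.2.1⟩).asIdeal).Finite := by
    refine hfin.subset ?_
    rintro _ ⟨⟨x, hxW, hx⟩, rfl⟩
    refine ⟨inferInstance, ?_⟩
    have hfy : f x = y := hx
    subst hfy
    exact congrArg PrimeSpectrum.asIdeal (IsAffineOpen.comap_primeIdealOf_appLE U hU W hW hWU hxW)
  rw [Set.finite_range_iff] at hWfin
  · exact Set.finite_coe_iff.mp hWfin
  · intro a b hab
    have h1 : hW.primeIdealOf ⟨a.1, a.2.1⟩ = hW.primeIdealOf ⟨b.1, b.2.1⟩ := PrimeSpectrum.ext hab
    have h2 := congrArg hW.fromSpec h1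
    rw [hW.fromSpec_primeIdealOf, hW.fromSpec_primeIdealOf] at h2
    exact Subtype.ext h2

theorem exists_isIso_codim_two [IsLocallyNoetherian Y] [IsProper f] (hclosed : IsIntClosedIn f)
    (hξ : f (genericPoint ↥X) = genericPoint ↥Y)
    (hbir : Function.Bijective (f.stalkMap (genericPoint ↥X))) :
    ∃ V : Y.Opens, IsIso (f ∣_ V) ∧
      (∀ y : Y, y ∉ (V : Set Y) → ∀ x : ↥(f.fiber y), ¬ IsOpen ({x} : Set ↥(f.fiber y))) ∧
      (∀ y : Y, y ∉ (V : Set Y) → 2 ≤ ringKrullDim (Y.presheaf.stalk y)) := by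
  obtain ⟨V, hV, hVfib⟩ := exists_isIso_forall_not_isOpen f hclosed
  refine ⟨V, hV, hVfib, fun y hy => ?_⟩
  by_contra hlt
  have hle : ringKrullDim (Y.presheaf.stalk y) ≤ 1 := by
    have hlt' := not_le.mp hlt
    revert hlt'
    generalize ringKrullDim (Y.presheaf.stalk y) = d
    intro hlt'
    induction d using WithBot.recBotCoe with
    | bot => exact bot_le
    | coe d =>
      have h2 : d < 2 := WithBot.coe_lt_coe.mp hlt'
      have : d ≤ 1 := ENat.lt_add_one_iff (by simp) |>.mp (by simpa [one_add_one_eq_two] using h2)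
      exact_mod_cast this
  have hsurj : Set.range f = Set.univ := by
    refine Set.eq_univ_iff_forall.mpr fun z => ?_
    have hcl : IsClosed (Set.range f) := f.isClosedMap.isClosed_range
    have hz : z ∈ closure ({genericPoint ↥Y} : Set Y) := by
      rw [genericPoint_closure]
      exact Set.mem_univ z
    refine closure_minimal ?_ hcl hz
    rw [Set.singleton_subset_iff, ← hξ]
    exact Set.mem_range_self _
  haveI : Finite ↥(f.fiber y) := by
    haveI := (finite_fibre_of_birational f hξ hbir y hle).to_subtype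
    exact Finite.of_equiv _ (f.fiberHomeo y).toEquiv.symm
  haveI : Nonempty ↥(f.fiber y) := by
    obtain ⟨x, hx⟩ := hsurj.ge (Set.mem_univ y)
    exact ⟨(f.fiberHomeo y).symm ⟨x, hx⟩⟩
  obtain ⟨x, hx⟩ := exists_open_singleton_of_finite (X := ↥(f.fiber y))
  exact hVfib y hy x hx

theorem generic_of_isIso_restrict {U : Y.Opens} (hU : (U : Set Y).Nonempty) (h : IsIso (f ∣_ U)) :
    f (genericPoint ↥X) = genericPoint ↥Y ∧ Function.Bijective (f.stalkMap (genericPoint ↥X)) := by
  obtain ⟨y, hy⟩ := hU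
  have hη : genericPoint ↥Y ∈ U := mem_of_generic_mem hy
  obtain ⟨w, hw⟩ := (f ∣_ U).homeomorph.surjective ⟨genericPoint ↥Y, hη⟩
  have hw' : f w.1 = genericPoint ↥Y := by
    have := congrArg Subtype.val hw
    simp [morphismRestrict_base] at this
    exact this
  have hξ : f (genericPoint ↥X) = genericPoint ↥Y := by
    have h1 : f (genericPoint ↥X) ⤳ genericPoint ↥Y :=
      hw' ▸ ((genericPoint_spec X).specializes trivial).map f.continuous
    exact (h1.antisymm ((genericPoint_spec Y).specializes trivial)).eq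
  refine ⟨hξ, ?_⟩
  have hmem : genericPoint ↥X ∈ f ⁻¹ᵁ U := by
    show f _ ∈ U
    rw [hξ]
    exact hη
  let w' : (f ⁻¹ᵁ U).toScheme := ⟨_, hmem⟩
  haveI := h
  have h2 : IsIso ((f ∣_ U).stalkMap w') := inferInstance
  rw [← ConcreteCategory.isIso_iff_bijective]
  exact ((MorphismProperty.isomorphisms CommRingCat).arrow_mk_iso_iff
    (morphismRestrictStalkMap f U w')).mp h2

end Groth.Agent.ZMT88
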