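import Mathlib.AlgebraicGeometry.ZariskisMainTheorem
import Mathlib.AlgebraicGeometry.Morphisms.IsIso

/-!
A morphism whose base is integrally closed in the source is an isomorphism over an open containing
the images of the points that are isolated in their fibres.
-/

set_option autoImplicit false

universe u

open CategoryTheory Limits AlgebraicGeometry TopologicalSpace

namespace Groth.Agent.ZMT88

variable {X Y : Scheme.{u}} (f : X ⟶ Y)

/-- `Y` is integrally closed in `X`, on affine opens. -/
def IsIntClosedIn : Prop :=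
  ∀ U : Y.Opens, IsAffineOpen U → Function.Injective (f.app U) ∧
    ∀ z : Γ(X, f ⁻¹ᵁ U), (f.app U).hom.IsIntegralElem z → ∃ a, f.app U a = z

theorem IsIntClosedIn.of_bijective (h : ∀ U : Y.Opens, Function.Bijective (f.app U)) : IsIntClosedIn f :=
  fun U _ => ⟨(h U).1, fun z _ => (h U).2 z⟩

theorem isIso_fromNormalization [QuasiCompact f] [QuasiSeparated f] (h : IsIntClosedIn f) :
    IsIso f.fromNormalization := by
  change MorphismProperty.isomorphisms Scheme f.fromNormalization
  rw [IsZariskiLocalAtTarget.iff_of_iSup_eq_top (P := MorphismProperty.isomorphisms Scheme) _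
    (iSup_affineOpens_eq_top Y)]
  intro U
  have hU : IsAffineOpen U.1 := U.2
  haveI : IsAffine (U.1 : Scheme.{u}) := hU
  haveI : IsAffine ((f.fromNormalization ⁻¹ᵁ U.1 : f.normalization.Opens) : Scheme.{u}) :=
    hU.preimage f.fromNormalization
  refine (MorphismProperty.arrow_mk_iso_iff (MorphismProperty.isomorphisms Scheme.{u})
    (arrowIsoSpecΓOfIsAffine (f.fromNormalization ∣_ U.1))).mpr ?_
  suffices IsIso (f.fromNormalization ∣_ U.1).appTop by
    exact inferInstanceAs (IsIso (Spec.map (f.fromNormalization ∣_ U.1).appTop))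
  have happ : IsIso (f.fromNormalization.app U.1) := by
    letI := (f.app U.1).hom.toAlgebra
    have : IsIso (CommRingCat.ofHom (algebraMap Γ(Y, U.1) (integralClosure Γ(Y, U.1) Γ(X, f ⁻¹ᵁ U.1)))) := by
      rw [ConcreteCategory.isIso_iff_bijective]
      refine ⟨fun a b hab => (h U.1 hU).1 (congrArg Subtype.val hab), fun z => ?_⟩
      obtain ⟨a, ha⟩ := (h U.1 hU).2 z.1 z.2
      exact ⟨a, Subtype.ext ha⟩
    rw [f.fromNormalization_app hU]
    infer_instance
  rw [show (f.fromNormalization ∣_ U.1).appTop = (f.fromNormalization ∣_ U.1).app ⊤ from rfl,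
    morphismRestrict_app]
  have e : U.1.ι ''ᵁ (⊤ : U.1.toScheme.Opens) = U.1 := by simp
  have : IsIso (f.fromNormalization.app (U.1.ι ''ᵁ (⊤ : U.1.toScheme.Opens))) := by
    rw [e]
    exact happ
  refine IsIso.comp_isIso' this ?_
  simp only [eqToHom_op, eqToHom_map]
  exact CategoryTheory.instIsIsoEqToHom _

theorem quasiFiniteAt_of_isOpen [LocallyOfFiniteType f] (y : Y) (z : X) (hz : f z = y) (x : ↥(f.fiber y))
    (hxz : f.fiberι y x = z) (hx : IsOpen ({x} : Set ↥(f.fiber y))) : f.QuasiFiniteAt z := by
  subst hz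
  rw [Scheme.Hom.quasiFiniteAt_iff_isOpen_singleton_asFiber,
    show f.asFiber z = x from (f.fiberι _).isEmbedding.injective ((f.fiberι_asFiber z).trans hxz.symm)]
  exact hx

theorem exists_isIso_forall_not_isOpen [IsSeparated f] [LocallyOfFiniteType f] [QuasiCompact f]
    (h : IsIntClosedIn f) :
    ∃ V : Y.Opens, IsIso (f ∣_ V) ∧
      ∀ y : Y, y ∉ (V : Set Y) → ∀ x : ↥(f.fiber y), ¬ IsOpen ({x} : Set ↥(f.fiber y)) := by
  have := isIso_fromNormalization f h
  obtain ⟨W, hW, hWset⟩ := f.exists_isIso_morphismRestrict_toNormalization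
  refine ⟨inv f.fromNormalization ⁻¹ᵁ W, ?_, ?_⟩
  · have hpre : f.fromNormalization ⁻¹ᵁ (inv f.fromNormalization ⁻¹ᵁ W) = W := by
      rw [← Scheme.Hom.comp_preimage, IsIso.hom_inv_id]
      rfl
    have h2 : IsIso (f.toNormalization ∣_ (f.fromNormalization ⁻¹ᵁ (inv f.fromNormalization ⁻¹ᵁ W))) := by
      rw [hpre]
      exact hW
    have h3 : IsIso ((f.toNormalization ≫ f.fromNormalization) ∣_ (inv f.fromNormalization ⁻¹ᵁ W)) := by
      rw [morphismRestrict_comp]
      haveI : IsIso (f.fromNormalization ∣_ (inv f.fromNormalization ⁻¹ᵁ W)) :=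
        IsZariskiLocalAtTarget.restrict (P := MorphismProperty.isomorphisms Scheme) (by assumption) _
      exact IsIso.comp_isIso' h2 (by assumption)
    rwa [f.toNormalization_fromNormalization] at h3
  · intro y hy x hx
    apply hy
    show inv f.fromNormalization y ∈ W
    have hxy : f (f.fiberι y x) = y := by
      rw [← Set.mem_singleton_iff, ← Set.mem_preimage, ← f.range_fiberι y]
      exact Set.mem_range_self x
    have hq := quasiFiniteAt_of_isOpen f y _ hxy x rfl hx
    have hmem : f.fiberι _ x ∈ (f.toNormalization ⁻¹ᵁ W).1 := by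
      rw [hWset]
      exact hq
    have : inv f.fromNormalization (f (f.fiberι y x)) = f.toNormalization (f.fiberι y x) := by
      rw [← Scheme.Hom.comp_apply]
      congr 5
      rw [IsIso.comp_inv_eq, f.toNormalization_fromNormalization]
    rw [← hxy, this]
    exact hmem

end Groth.Agent.ZMT88
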